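import Groth.Agent.EtFound.FilteredSectionsGen
import Groth.Agent.ProEtLib.WC

/-! Quasi-compact quasi-separated objects of the small pro-etale site. -/

universe u

open CategoryTheory CategoryTheory.Limits AlgebraicGeometry Opposite

noncomputable section

set_option backward.isDefEq.respectTransparency false
set_option backward.isDefEq.respectTransparency.types false

namespace Groth.Agent.ProEtLib.Qcqs

variable {X : Scheme.{u}}

/-- quasi-compact and quasi-separated -/
def IsQcqsP (U : X.ProEt) : Prop :=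
  CompactSpace ↥U.left ∧ QuasiSeparatedSpace ↥U.left

theorem isQcqsP_of_isAffine (U : X.ProEt) [IsAffine U.left] : IsQcqsP U := ⟨inferInstance, inferInstance⟩

theorem isQcqsP_top [CompactSpace X] [QuasiSeparatedSpace X] : IsQcqsP (ProEtS.topP X) :=
  ⟨‹CompactSpace X›, ‹QuasiSeparatedSpace X›⟩

theorem isQcqsP_of_iso {U V : X.ProEt} (e : U ≅ V) (hV : IsQcqsP V) : IsQcqsP U := by
  obtain ⟨h1, h2⟩ := hV
  let φ : U.left ≅ V.left := (Scheme.ProEt.forget X ⋙ CategoryTheory.Over.forget X).mapIso e
  exact ⟨QuasiCompact.compactSpace_of_compactSpace φ.hom, quasiSeparatedSpace_of_quasiSeparated φ.hom⟩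

theorem isQcqsP_pullback {U V W : X.ProEt} (a : V ⟶ U) (b : W ⟶ U) (hU : IsQcqsP U) (hV : IsQcqsP V)
    (hW : IsQcqsP W) : IsQcqsP (pullback a b) := by
  obtain ⟨-, hU₂⟩ := hU
  obtain ⟨hV₁, hV₂⟩ := hV
  obtain ⟨hW₁, hW₂⟩ := hW
  haveI : PreservesFiniteLimits (Scheme.ProEt.forget X) := inferInstance
  haveI : PreservesLimitsOfShape WalkingCospan (Scheme.ProEt.forget X ⋙ CategoryTheory.Over.forget X) :=
    comp_preservesLimitsOfShape _ _
  let e : (pullback a b).left ≅ pullback a.left b.left :=
    PreservesPullback.iso (Scheme.ProEt.forget X ⋙ CategoryTheory.Over.forget X) a b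
  haveI : QuasiCompact b.left := quasiCompact_of_compactSpace _
  haveI : QuasiSeparated b.left := inferInstance
  haveI : CompactSpace ↥(pullback a.left b.left) :=
    QuasiCompact.compactSpace_of_compactSpace (pullback.fst a.left b.left)
  haveI : QuasiSeparatedSpace ↥(pullback a.left b.left) :=
    quasiSeparatedSpace_of_quasiSeparated (pullback.fst a.left b.left)
  exact ⟨QuasiCompact.compactSpace_of_compactSpace e.hom, quasiSeparatedSpace_of_quasiSeparated e.hom⟩

/-- coverings of qcqs objects have finite affine refinements -/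
theorem hasFiniteRefinements (X : Scheme.{u}) :
    EtFound.FilteredSectionsGen.HasFiniteRefinements (Scheme.ProEt.topology X) (IsQcqsP (X := X)) := by
  intro U hU S hS
  have := hU.1
  have := hU.2
  obtain ⟨T, hT, hle⟩ := (mem_topology_iff S).1 hS
  obtain ⟨ι, V, g, rfl⟩ := T.exists_eq_ofArrows
  rw [ofArrows_mem_precoverage_iff, mem_proetalePrecoverage_iff] at hT
  have := hT.1
  obtain ⟨n, a, O, hO, hcov⟩ := QuasiCompactCover.exists_isAffineOpen_of_isCompact
    (PreZeroHypercover.mk ι (fun i => (V i).left) fun i => (g i).left) (U := (⊤ : U.left.Opens))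
    isCompact_univ
  let P : Fin n → X.ProEt := fun k => opObj (V (a k)) (O k)
  let p : ∀ k, P k ⟶ U := fun k => opHom (V (a k)) (O k) ≫ g (a k)
  have hA : ∀ k, IsAffine (P k).left := hO
  have hP : ∀ k, IsQcqsP (P k) := fun k => isQcqsP_of_isAffine _
  have hsurj : ∀ x, ∃ k, x ∈ Set.range (p k).left.base := fun x => by
    have hx : x ∈ ((⊤ : U.left.Opens) : Set U.left) := trivial
    rw [← hcov, Set.mem_iUnion] at hx
    obtain ⟨k, y, hy, hyx⟩ := hx
    exact ⟨k, ⟨y, hy⟩, hyx⟩
  refine ⟨n, P, p, fun k => S.downward_closed (hle _ _ ⟨a k⟩) _, ?_, hP,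
    fun k l => isQcqsP_pullback _ _ hU (hP k) (hP l)⟩
  rw [mem_topology_iff]
  refine ⟨_, ?_, Sieve.le_generate _⟩
  rw [ofArrows_mem_precoverage_iff, mem_proetalePrecoverage_iff]
  refine ⟨⟨fun {U'} hU' => IsCompactOpenCovered.of_finite_of_isSpectralMap
    (fun k => ?_) (fun x _ => hsurj x) U'.2 hU'.isCompact⟩, hsurj, fun k => weaklyEtale_left (p k)⟩
  have := hA k
  have : QuasiCompact (p k).left := quasiCompact_of_compactSpace _
  exact (p k).left.isSpectralMap

theorem preservesColimitsOfShape_sections (U : X.ProEt) (hU : IsQcqsP U) (I : Type (u + 1)) [SmallCategory I]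
    [IsFiltered I] : PreservesColimitsOfShape I (sheafToPresheaf (Scheme.ProEt.topology X) AddCommGrpCat.{u + 1} ⋙
      (evaluation X.ProEtᵒᵖ AddCommGrpCat.{u + 1}).obj (op U)) :=
  EtFound.FilteredSectionsGen.preservesColimitsOfShape_sections_ab.{u + 1} (I := I) (hasFiniteRefinements X) hU

end Groth.Agent.ProEtLib.Qcqs
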