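import Groth.Agent.ProEtLib.Qcqs.Cech
import Mathlib.CategoryTheory.Limits.Constructions.Filtered
import Mathlib.CategoryTheory.Preadditive.AdditiveFunctor

/-! Additive functors preserving filtered colimits preserve coproducts. -/

set_option autoImplicit false
set_option backward.isDefEq.respectTransparency false
set_option backward.isDefEq.respectTransparency.types false

universe w v v' u u'

open CategoryTheory CategoryTheory.Limits

noncomputable section

namespace Groth.Agent.ProEtLib.Qcqs

open CoproductsFromFiniteFiltered

theorem preservesColimitsOfShape_discrete {C : Type u} [Category.{v} C] {D : Type u'} [Category.{v'} D]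
    {α : Type w} [HasFiniteCoproducts C] [HasColimitsOfShape (Finset (Discrete α)) C]
    [HasColimitsOfShape (Discrete α) C] [HasColimitsOfShape (Discrete α) D] [HasFiniteCoproducts D]
    (F : C ⥤ D) [PreservesColimitsOfShape (Finset (Discrete α)) F] [PreservesFiniteCoproducts F] :
    PreservesColimitsOfShape (Discrete α) F := by
  refine ⟨fun {K} => ?_⟩
  suffices h : PreservesColimit (Discrete.functor (K.obj ∘ Discrete.mk)) F from
    preservesColimit_of_iso_diagram F Discrete.natIsoFunctor.symm
  let f : α → C := K.obj ∘ Discrete.mk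
  let hc := isColimitOfPreserves F (isColimitFiniteSubproductsCocone f)
  let leg : ∀ S : Finset (Discrete α), F.obj (∐ fun x : S => f x.1.as) ⟶ ∐ fun a => F.obj (f a) := fun S =>
    inv (sigmaComparison F fun x : S => f x.1.as) ≫
      Sigma.desc fun x : S => Sigma.ι (fun a => F.obj (f a)) x.1.as
  have hleg : ∀ (S : Finset (Discrete α)) (x : S),
      F.map (Sigma.ι (fun x : S => f x.1.as) x) ≫ leg S = Sigma.ι (fun a => F.obj (f a)) x.1.as := fun S x => by
    have h : F.map (Sigma.ι (fun x : S => f x.1.as) x) ≫ inv (sigmaComparison F fun x : S => f x.1.as) =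
        Sigma.ι (fun x : S => F.obj (f x.1.as)) x := by
      rw [IsIso.comp_inv_eq, ι_comp_sigmaComparison]
    simp only [leg, reassoc_of% h, Sigma.ι_desc]
  have hσ : ∀ (S : Finset (Discrete α)) (x : S) {Z : D} (q : F.obj (∐ fun x : S => f x.1.as) ⟶ Z),
      Sigma.ι (fun x : S => F.obj (f x.1.as)) x ≫ sigmaComparison F (fun x : S => f x.1.as) ≫ q =
        F.map (Sigma.ι (fun x : S => f x.1.as) x) ≫ q := fun S x Z q => by
    rw [← Category.assoc, ι_comp_sigmaComparison]
  let s : Cocone (liftToFinsetObj (Discrete.functor f) ⋙ F) :=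
    { pt := ∐ fun a => F.obj (f a)
      ι :=
        { app := fun S => leg S
          naturality := fun S T h => by
            refine Eq.trans ?_ (Category.comp_id _).symm
            rw [← cancel_epi (sigmaComparison F fun x : S => f x.1.as)]
            refine Sigma.hom_ext _ _ fun x => ?_
            refine (hσ S x _).trans (Eq.trans ?_ (hσ S x _).symm)
            refine ((Category.assoc _ _ _).symm.trans (congrArg (· ≫ leg T)
              ((F.map_comp _ _).symm.trans (congrArg F.map (Sigma.ι_desc _ x))))).trans ?_
            exact (hleg T ⟨x.1, h.down.down x.2⟩).trans (hleg S x).symm } }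
  have key : ∀ (S : Finset (Discrete α)) (x : S),
      F.map (Sigma.ι f x.1.as) ≫ hc.desc s = Sigma.ι (fun a => F.obj (f a)) x.1.as := fun S x => by
    have h1 : F.map (Sigma.ι (fun x : S => f x.1.as) x) ≫ F.map ((finiteSubcoproductsCocone f).ι.app S) =
        F.map (Sigma.ι f x.1.as) := (F.map_comp _ _).symm.trans (congrArg F.map (Sigma.ι_desc _ x))
    rw [← h1, Category.assoc]
    exact (congrArg (F.map (Sigma.ι (fun x : S => f x.1.as) x) ≫ ·) (hc.fac s S)).trans (hleg S x)
  have : IsIso (sigmaComparison F f) := by
    refine ⟨hc.desc s, Sigma.hom_ext _ _ fun a => ?_, hc.hom_ext fun S => ?_⟩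
    · rw [Category.comp_id, ← Category.assoc, ι_comp_sigmaComparison]
      exact key {⟨a⟩} ⟨⟨a⟩, Finset.mem_singleton_self _⟩
    · refine ((Category.assoc _ _ _).symm.trans (congrArg (· ≫ sigmaComparison F f) (hc.fac s S))).trans ?_
      refine Eq.trans ?_ (Category.comp_id _).symm
      show leg S ≫ sigmaComparison F f = F.map ((finiteSubcoproductsCocone f).ι.app S)
      rw [← cancel_epi (sigmaComparison F fun x : S => f x.1.as)]
      refine Sigma.hom_ext _ _ fun x => ?_
      refine (hσ S x _).trans (Eq.trans ?_ (hσ S x _).symm)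
      refine (Category.assoc _ _ _).symm.trans ((congrArg (· ≫ sigmaComparison F f) (hleg S x)).trans ?_)
      refine (ι_comp_sigmaComparison F f x.1.as).trans ?_
      exact ((F.map_comp _ _).symm.trans
        (congrArg F.map (Sigma.ι_desc (fun y : S => Sigma.ι f y.1.as) x))).symm
  exact PreservesCoproduct.of_iso_comparison F f

open AlgebraicGeometry in
theorem preservesColimitsOfShape_HPF_discrete (X : Scheme.{w}) [CompactSpace X] [QuasiSeparatedSpace X] (n : ℕ)
    (ι : Type w) : PreservesColimitsOfShape (Discrete ι) (ProEtS.HPF X n) := by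
  haveI : PreservesColimitsOfShape (Finset (Discrete (ULift.{w + 1} ι))) (ProEtS.HPF X n) :=
    preservesColimitsOfShape_HF X n _
  haveI : (ProEtS.HPF X n).Additive := by unfold ProEtS.HPF; infer_instance
  haveI : PreservesFiniteCoproducts (ProEtS.HPF X n) := inferInstance
  haveI := preservesColimitsOfShape_discrete (C := ProEtS.AbP X) (D := AddCommGrpCat.{w + 1}) (α := ULift.{w + 1} ι)
    (ProEtS.HPF X n)
  exact preservesColimitsOfShape_of_equiv (Discrete.equivalence Equiv.ulift) _

end Groth.Agent.ProEtLib.Qcqs
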